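import Groth.Agent.Lib.GRing6.Dedekind
import Groth.Agent.Lib.GRing6.Permanence
import Groth.Agent.Lib.GRing6.HensExc
import Groth.Agent.Lib.Hens.Local
import Groth.Agent.Lib.Hens.Henselization
import Groth.Agent.Lib.Hens.Noetherian
import Groth.Agent.S2045

/-!
A henselian local ring is the union of subrings which are henselian local G-rings.
-/

open IsLocalRing

namespace Groth.Agent.HensColimH7

universe u

theorem isGRing_uliftInt : CAlg.IsGRing (ULift.{u} ℤ) := by
  let e : ULift.{u} ℤ ≃+* ℤ := ULift.ringEquiv
  haveI : IsDomain (ULift.{u} ℤ) := e.toMulEquiv.isDomain ℤ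
  haveI : IsPrincipalIdealRing (ULift.{u} ℤ) :=
    IsPrincipalIdealRing.of_surjective e.symm.toRingHom e.symm.surjective
  haveI : CharZero (ULift.{u} ℤ) :=
    charZero_of_injective_ringHom (f := e.symm.toRingHom) e.symm.injective
  exact (GRing6.isExcellent_of_dedekind_charZero (ULift.{u} ℤ)).2.2.1

/-- The map from the henselization induced by a local homomorphism into a henselian local ring. -/
theorem exists_hens_lift (R : Type u) [CommRing R] [IsLocalRing R] (A : Type u) [CommRing A]
    [HenselianLocalRing A] (f : R →+* A) (hf : IsLocalHom f) :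
    ∃! g : Hens.Hh R →+* A, g.comp (algebraMap R (Hens.Hh R)) = f :=
  (inferInstance : Hensel.IsHenselization R (Hens.Hh R)).universal A f hf

theorem range_le {R R' A : Type u} [CommRing R] [IsLocalRing R] [CommRing R'] [IsLocalRing R']
    [CommRing A] [HenselianLocalRing A] (l : R →+* R') (f : R →+* A) (f' : R' →+* A)
    (hl : f'.comp l = f) (hf : IsLocalHom f) (g : Hens.Hh R →+* A)
    (hg : g.comp (algebraMap R (Hens.Hh R)) = f) (g' : Hens.Hh R' →+* A)
    (hg' : g'.comp (algebraMap R' (Hens.Hh R')) = f') : g.range ≤ g'.range := by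
  have hll : IsLocalHom l := ⟨fun x hx => by
    haveI := hf
    have : IsUnit (f x) := by rw [← hl]; exact hx.map f'
    exact isUnit_of_map_unit f x this⟩
  obtain ⟨h, hh, -⟩ := exists_hens_lift R (Hens.Hh R') ((algebraMap R' (Hens.Hh R')).comp l)
    (RingHom.isLocalHom_comp _ _)
  have heq : g'.comp h = g := (exists_hens_lift R A f hf).unique (by
    show (g'.comp h).comp _ = f
    rw [RingHom.comp_assoc, hh, ← RingHom.comp_assoc, hg', hl]) hg
  rintro x ⟨y, rfl⟩
  exact ⟨h y, RingHom.congr_fun heq y⟩

/-- Every finite subset of a henselian local ring lies in a subring which is the image of the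
henselization of a local ring of a finitely generated subring. -/
theorem exists_subrings (A : Type u) [CommRing A] [HenselianLocalRing A] :
    ∃ S : Finset A → Subring A, Monotone S ∧ (∀ a, a ∈ S {a}) ∧
      ∀ s, HenselianLocalRing (S s) ∧ CAlg.IsGRing (S s) ∧ IsLocalHom (S s).subtype := by
  classical
  let ι : ULift.{u} ℤ →+* A := (Int.castRingHom A).comp ULift.ringEquiv.toRingHom
  letI : Algebra (ULift.{u} ℤ) A := ι.toAlgebra
  let B : Finset A → Subalgebra (ULift.{u} ℤ) A := fun s => Algebra.adjoin _ (s : Set A)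
  let p : ∀ s, Ideal (B s) := fun s => (maximalIdeal A).comap (B s).val.toRingHom
  haveI : ∀ s, (p s).IsPrime := fun s => Ideal.IsPrime.comap _
  let φ : ∀ s, Localization.AtPrime (p s) →+* A := fun s =>
    IsLocalization.lift (M := (p s).primeCompl) (g := (B s).val.toRingHom) fun y => by
      by_contra h
      exact y.2 ((mem_maximalIdeal _).2 h)
  have hφ : ∀ s b, φ s (algebraMap (B s) _ b) = (b : A) := fun s b =>
    IsLocalization.lift_eq _ b
  have hφl : ∀ s, IsLocalHom (φ s) := fun s => ⟨fun x hx => by
    obtain ⟨b, t, rfl⟩ := IsLocalization.exists_mk'_eq (p s).primeCompl x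
    refine (IsLocalization.AtPrime.isUnit_mk'_iff _ (p s) b t).2 fun hb => ?_
    have h1 := congrArg (φ s) (IsLocalization.mk'_spec (Localization.AtPrime (p s)) b t)
    rw [map_mul, hφ, hφ] at h1
    have ht : IsUnit ((t : B s) : A) := by
      by_contra h
      exact t.2 ((mem_maximalIdeal _).2 h)
    exact (mem_maximalIdeal (b : A)).1 hb (h1 ▸ hx.mul ht : IsUnit (b : A))⟩
  have hR : ∀ s, CAlg.IsGRing (Localization.AtPrime (p s)) := fun s => by
    haveI : Algebra.FiniteType (ULift.{u} ℤ) (B s) :=
      (Subalgebra.fg_iff_finiteType _).1 (Subalgebra.fg_adjoin_finset s)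
    exact GRing6.isGRing_of_isLocalization (B s) _ (p s).primeCompl
      (GRing6.isGRing_of_finiteType (ULift.{u} ℤ) (B s) isGRing_uliftInt)
  haveI : ∀ s, IsNoetherianRing (Localization.AtPrime (p s)) := fun s => (hR s).1
  have hH : ∀ s, ∃! g : Hens.Hh (Localization.AtPrime (p s)) →+* A,
      g.comp (algebraMap (Localization.AtPrime (p s)) _) = φ s := fun s =>
    exists_hens_lift (Localization.AtPrime (p s)) A (φ s) (hφl s)
  choose g hg hgu using hH
  have hgl : ∀ s, IsLocalHom (g s) := fun s => by
    refine ((local_hom_TFAE (g s)).out 2 0 rfl rfl).mp ?_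
    rw [← Hens.henselization_map_maximalIdeal (Localization.AtPrime (p s))
      (Hens.Hh (Localization.AtPrime (p s))), Ideal.map_map, hg s]
    exact ((local_hom_TFAE (φ s)).out 0 2 rfl rfl).mp (hφl s)
  refine ⟨fun s => (g s).range, fun s t hst => ?_, fun a => ?_, fun s => ?_⟩
  · have hB : B s ≤ B t := Algebra.adjoin_mono (Finset.coe_subset.2 hst)
    have hp : p s = (p t).comap (Subalgebra.inclusion hB).toRingHom := Ideal.ext fun _ => Iff.rfl
    let l : Localization.AtPrime (p s) →+* Localization.AtPrime (p t) :=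
      Localization.localRingHom (p s) (p t) (Subalgebra.inclusion hB).toRingHom hp
    have hl : (φ t).comp l = φ s := IsLocalization.ringHom_ext (p s).primeCompl <| RingHom.ext
      fun b => by
        show φ t (l (algebraMap _ _ b)) = φ s (algebraMap _ _ b)
        rw [Localization.localRingHom_to_map, hφ, hφ]
        rfl
    exact range_le l (φ s) (φ t) hl (hφl s) (g s) (hg s) (g t) (hg t)
  · refine ⟨algebraMap (Localization.AtPrime (p {a})) _ (algebraMap _ _
      (⟨a, Algebra.subset_adjoin (by simp)⟩ : B {a})), ?_⟩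
    exact (RingHom.congr_fun (hg {a}) _).trans (hφ _ _)
  · have hG : CAlg.IsGRing (Hens.Hh (Localization.AtPrime (p s))) :=
      S2045.result (R := Localization.AtPrime (p s)) (hR s)
    letI := (g s).rangeRestrict.toAlgebra
    have hs : Function.Surjective (algebraMap (Hens.Hh (Localization.AtPrime (p s))) (g s).range) :=
      (g s).rangeRestrict_surjective
    haveI : IsLocalRing (g s).range := IsLocalRing.of_surjective' _ hs
    refine ⟨?_, GRing6.isGRing_of_surjective _ _ hs hG, ⟨fun x hx => ?_⟩⟩
    · haveI : Algebra.IsIntegral (Hens.Hh (Localization.AtPrime (p s))) (g s).range :=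
        ⟨fun x => by obtain ⟨y, rfl⟩ := hs x; exact isIntegral_algebraMap⟩
      exact Hens.henselianLocalRing_of_isIntegral (Hens.Hh (Localization.AtPrime (p s))) _
    · obtain ⟨y, rfl⟩ := hs x
      exact ((hgl s).map_nonunit y hx).map _

end Groth.Agent.HensColimH7
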